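/-
The members commuting with the first of two commuting transpositions and not with the second:
the kernel of the action on the classes is transitive on them.
-/
import Cfsg.Agent.H5.Gq.Quotient

set_option autoImplicit false
set_option linter.unusedSectionVars false

namespace H33.FiPair

open Matrix Cfsg H50 H5.TT H5.TT.Fac H5.Gq

variable {G : Type*} [Group G] {D : Set G} {F : Type*} [Field F] [Fintype F] {d₁ d₂ : G}

/-- The members commuting with the first transposition and not with the second. -/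
def far (_ : Duo D F d₁ d₂) : Set G := {y | y ∈ H99.perp D d₁ ∧ ¬ Commute y d₂}

variable (T : Duo D F d₁ d₂)
include T

theorem far_vec {y : G} (hy : y ∈ far T) :
    ∃ v, T.U.C y v ∧ hermForm 6 F 2 v e₀ ≠ 0 := by
  obtain ⟨v, hv⟩ := T.U.ex hy.1
  exact ⟨v, hv, fun h => hy.2 ((T.U.comm hv T.ctr₂).2 h)⟩

theorem herm_split (v : Fin 6 → F) (a : F) (u : Fin 4 → F) :
    hermForm 6 F 2 v (vc a u) = hermForm 6 F 2 v (vc 0 u) + a ^ 2 * hermForm 6 F 2 v e₀ := by
  have h : vc a u = vc 0 u + a • (e₀ : Fin 6 → F) := by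
    rw [e₀_eq, vc_smul, vc_add, zero_add, mul_one, smul_zero, add_zero]
  rw [h, h_add_right T.hF, h_smul_right T.hF]

theorem far_exists {y : G} (hy : y ∈ far T) (i : Fin 45) : ∃ a, Commute y (T.X i a) := by
  obtain ⟨v, hv, hne⟩ := far_vec T hy
  set q := hermForm 6 F 2 v (vc 0 (P i)) / hermForm 6 F 2 v e₀ with hq
  refine ⟨q ^ 2, (T.U.comm hv (T.C_X i _)).2 ?_⟩
  have h4 : (q ^ 2) ^ 2 = q := by
    rw [← pow_mul]
    rcases eq_or_ne q 0 with h | h
    · rw [h]; simp
    · rw [show (2 * 2 : ℕ) = 3 + 1 by rfl, pow_succ, U2.cube T.hF h, one_mul]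
  rw [herm_split T, h4, hq, div_mul_cancel₀ _ hne]
  exact U2.add_self T.hF _

theorem far_unique {y : G} (hy : y ∈ far T) {i : Fin 45} {a b : F}
    (ha : Commute y (T.X i a)) (hb : Commute y (T.X i b)) : a = b := by
  obtain ⟨v, hv, hne⟩ := far_vec T hy
  have e1 := (T.U.comm hv (T.C_X i a)).1 ha
  have e2 := (T.U.comm hv (T.C_X i b)).1 hb
  rw [herm_split T] at e1 e2
  have hsq : (a + b) ^ 2 * hermForm 6 F 2 v e₀ = 0 := by
    have h2 := U2.add_self T.hF (1 : F)
    grind
  have h0 : a + b = 0 := eq_zero_of_pow_eq_zero ((mul_eq_zero.1 hsq).resolve_right hne)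
  have := U2.add_self T.hF b
  grind

theorem far_conj {g y : G} (h1 : Commute g d₁) (h2 : Commute g d₂) (hy : y ∈ far T) :
    g * y * g⁻¹ ∈ far T := by
  have hp := H99.perp_conj (fun g _ hx => T.conjD g hx) g hy.1
  rw [h1.eq, mul_inv_cancel_right] at hp
  refine ⟨hp, fun hc => hy.2 ?_⟩
  rw [← H99.conj_commute_iff g, show g * d₂ * g⁻¹ = d₂ by rw [h2.eq, mul_inv_cancel_right]]
  exact hc

theorem perp_cases {x : G} (hx : x ∈ H99.perp D d₁) :
    x = d₂ ∨ (∃ i a, x = T.X i a) ∨ x ∈ far T := by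
  by_cases h : Commute x d₂
  · rcases eq_or_ne x d₂ with h' | h'
    · exact Or.inl h'
    · exact Or.inr (Or.inl (T.exists_X hx ⟨hx.1, h', h.symm⟩))
  · exact Or.inr (Or.inr ⟨hx, h⟩)

theorem ncard_far [Finite G] : (far T).ncard = 512 := by
  classical
  set R : Set G := Set.range fun p : Fin 45 × F => T.X p.1 p.2 with hR
  have hRc : R.ncard = 180 := by
    rw [hR, Set.ncard_range_of_injective (fun p q h => Prod.ext (T.X_inj h).1 (T.X_inj h).2)]
    rw [Nat.card_eq_fintype_card, Fintype.card_prod, Fintype.card_fin, T.hF]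
    norm_num
  have hsplit : H99.perp D d₁ = insert d₂ (R ∪ far T) := by
    ext x
    constructor
    · intro hx
      rcases perp_cases T hx with h | ⟨i, a, h⟩ | h
      · exact Or.inl h
      · exact Or.inr (Or.inl ⟨(i, a), h.symm⟩)
      · exact Or.inr (Or.inr h)
    · rintro (rfl | ⟨p, rfl⟩ | h)
      exacts [T.mem₂, T.mem_one _ _, h.1]
  have hd : d₂ ∉ R ∪ far T := by
    rintro (⟨p, hp⟩ | h)
    · exact (T.mem_two p.1 p.2).2.1 hp
    · exact h.2 (Commute.refl _)
  have hdis : Disjoint R (far T) := Set.disjoint_left.2 fun x hx hf => by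
    obtain ⟨p, rfl⟩ := hx
    exact hf.2 (T.commute_X_two _ _)
  have h := T.set'.deg d₁ T.mem₁
  rw [hsplit, Set.ncard_insert_of_notMem hd, Set.ncard_union_eq hdis, hRc] at h
  omega

theorem ker_stab_far {y : G} (hy : y ∈ far T) {k : G} (hk : k ∈ T.ker) (hc : Commute k y) :
    k = 1 ∨ k = d₁ := by
  have hal : T.al ⟨k, hk⟩ = 0 := dot_inj T.hF fun i => by
    obtain ⟨a, ha⟩ := far_exists T hy i
    have h1 : Commute (k * y * k⁻¹) (k * T.X i a * k⁻¹) := (H99.conj_commute_iff k _ _).2 ha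
    rw [hc.eq, mul_inv_cancel_right, T.al_spec ⟨k, hk⟩] at h1
    have := far_unique T hy ha h1
    rw [zero_dotProduct]
    exact left_eq_add.mp this
  have hd1 : Commute d₁ y := hy.1.2.2
  rcases T.mem_span.1 ((T.al_span ⟨k, hk⟩).1 hal) with h | h | h | h
  · exact Or.inl h
  · exact Or.inr h
  · exact absurd ((show k = d₂ from h) ▸ hc).symm hy.2
  · exfalso
    refine hy.2 ?_
    have := hd1.inv_left.mul_left ((show k = d₁ * d₂ from h) ▸ hc)
    rw [inv_mul_cancel_left] at this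
    exact this.symm

theorem far_trans [Finite G] {y y' : G} (hy : y ∈ far T) (hy' : y' ∈ far T) :
    ∃ k ∈ T.ker, k * y * k⁻¹ = y' := by
  set O : Set G := (fun k => k * y * k⁻¹) '' (T.ker : Set G) with hO
  have h := card_conj_orbit T.ker y O (fun k hk => ⟨k, hk, rfl⟩) (fun z hz => hz)
  have hst : T.ker ⊓ Subgroup.centralizer ({y} : Set G) = Subgroup.zpowers d₁ := by
    ext k
    rw [Subgroup.mem_inf, Subgroup.mem_centralizer_singleton_iff]
    constructor
    · rintro ⟨hk, hc⟩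
      rcases ker_stab_far T hy hk hc with h' | h'
      · rw [h']; exact one_mem _
      · rw [h']; exact Subgroup.mem_zpowers _
    · intro hk
      obtain ⟨n, rfl⟩ := Subgroup.mem_zpowers_iff.1 hk
      exact ⟨zpow_mem T.d₁_mem_ker n, ((show Commute d₁ y from hy.1.2.2).zpow_left n).eq⟩
  rw [hst, T.card_ker, Nat.card_zpowers, T.set'.cls.1.1 d₁ T.mem₁] at h
  have hsub : O ⊆ far T := by
    rintro z ⟨k, hk, rfl⟩
    exact far_conj T (T.ker_commute hk).1 (T.ker_commute hk).2 hy
  have heq : O = far T :=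
    Set.eq_of_subset_of_ncard_le hsub (by rw [ncard_far T]; omega)
  rw [← heq] at hy'
  obtain ⟨k, hk, rfl⟩ := hy'
  exact ⟨k, hk, rfl⟩

/-- Two far members commuting with the same members of the classes differ at most by the second
transposition. -/
theorem far_near [Finite G] {y y' : G} (hy : y ∈ far T) (hy' : y' ∈ far T)
    (h : ∀ i a, Commute y (T.X i a) → Commute y' (T.X i a)) :
    y' = y ∨ y' = d₂ * y * d₂⁻¹ := by
  obtain ⟨k, hk, rfl⟩ := far_trans T hy hy'
  have hd1 : Commute d₁ y := hy.1.2.2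
  have hal : T.al ⟨k, hk⟩ = 0 := dot_inj T.hF fun i => by
    obtain ⟨a, ha⟩ := far_exists T hy i
    have h1 : Commute (k * y * k⁻¹) (k * T.X i a * k⁻¹) := (H99.conj_commute_iff k _ _).2 ha
    rw [T.al_spec ⟨k, hk⟩] at h1
    have := far_unique T hy' (h i a ha) h1
    rw [zero_dotProduct]
    exact left_eq_add.mp this
  rcases T.mem_span.1 ((T.al_span ⟨k, hk⟩).1 hal) with e | e | e | e
  · left; rw [show k = 1 from e]; group
  · left; rw [show k = d₁ from e, hd1.eq, mul_inv_cancel_right]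
  · right; rw [show k = d₂ from e]
  · right
    rw [show k = d₂ * d₁ from e.trans T.comm₁₂.eq,
      show d₂ * d₁ * y * (d₂ * d₁)⁻¹ = d₂ * (d₁ * y * d₁⁻¹) * d₂⁻¹ by group, hd1.eq,
      mul_inv_cancel_right]

/-- Two commuting far members. -/
theorem far_pair : ∃ y ∈ far T, ∃ y' ∈ far T, y ≠ y' ∧ Commute y y' := by
  have h2 := U2.add_self T.hF (1 : F)
  set v : Fin 6 → F := ![1, 0, 1, 0, 0, 0] with hv
  set w : Fin 6 → F := ![0, 1, 0, 1, 0, 0] with hw
  have hvv : hermForm 6 F 2 v v = 0 := by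
    simp [hermForm, Fin.sum_univ_six, hv, h2]
  have hww : hermForm 6 F 2 w w = 0 := by
    simp [hermForm, Fin.sum_univ_six, hw, h2]
  have hvw : hermForm 6 F 2 v w = 0 := by simp [hermForm, Fin.sum_univ_six, hv, hw]
  have hv0 : v ≠ 0 := fun h => one_ne_zero (α := F) (congrFun h 0)
  have hw0 : w ≠ 0 := fun h => one_ne_zero (α := F) (congrFun h 1)
  obtain ⟨y, hy⟩ := T.U.surj hv0 hvv
  obtain ⟨y', hy'⟩ := T.U.surj hw0 hww
  refine ⟨y, ⟨T.U.mem hy, fun h => ?_⟩, y', ⟨T.U.mem hy', fun h => ?_⟩, fun h => ?_,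
    (T.U.comm hy hy').2 hvw⟩
  · have := (T.U.comm hy T.ctr₂).1 h
    rw [herm_e₀ T.hF] at this
    simp [hv] at this
  · have := (T.U.comm hy' T.ctr₂).1 h
    rw [herm_e₀ T.hF] at this
    simp [hw] at this
  · obtain ⟨c, -, hc⟩ := T.U.prop hy (h ▸ hy')
    have := congrFun hc 1
    simp [hv, hw] at this

end H33.FiPair
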