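/-
What is used of the automorphism group of a group of type M(22) at two commuting transpositions.
-/
import Cfsg.Agent.H33.FiPair.Far
import Cfsg.Agent.H73.TT.Main
import Cfsg.Agent.H33.Triple.PairFi22

set_option autoImplicit false

namespace H33.FiPair

open Cfsg H5.Gq

variable {G : Type*} [Group G]

/-- Facts on a group of type M(22) and its automorphisms. -/
structure Amb (D : Set G) : Prop where
  triv : Subgroup.center G = ⊥
  aut : ∀ (φ : MulAut G) (x : G), x ∈ D → φ x ∈ D
  card : Nat.card (MulAut G) = 2 * Nat.card G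
  cent : ∀ d ∈ D, Subgroup.centralizer ({d} : Set G) = Subgroup.closure (H99.perp D d)
  link : ∀ d ∈ D, ∀ x ∈ D, ¬ Commute d x → (H99.perp D d ∩ H99.perp D x).Nonempty
  top : ∀ d ∈ D, ∀ x ∈ D, ¬ Commute d x →
    Subgroup.closure (insert x (H99.perp D d)) = ⊤

/-- A class on which conjugation is primitive: a point stabiliser and one further member generate. -/
theorem closure_insert_perp {D : Set G} (hD : IsThreeTranspositionGroup D)
    (hp : IsPrimitiveUnderConj D) {d x : G} (hd : d ∈ D) (hx : x ∈ D) (hdx : ¬ Commute d x)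
    (hcent : Subgroup.centralizer ({d} : Set G) = Subgroup.closure (H99.perp D d)) :
    Subgroup.closure (insert x (H99.perp D d)) = ⊤ := by
  set H := Subgroup.closure (insert x (H99.perp D d)) with hH
  have hCH : ∀ g : G, g * d * g⁻¹ = d → g ∈ H := fun g hg => by
    have : g ∈ Subgroup.centralizer ({d} : Set G) :=
      Subgroup.mem_centralizer_singleton_iff.2 (mul_inv_eq_iff_eq_mul.1 hg)
    rw [hcent] at this
    exact Subgroup.closure_mono (Set.subset_insert _ _) this
  set B : Set G := (fun h => h * d * h⁻¹) '' (H : Set G) with hB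
  have hBD : B ⊆ D := by rintro y ⟨h, -, rfl⟩; exact hD.2.1 h d hd
  have hblock : ∀ g : G, (fun y => g * y * g⁻¹) '' B = B ∨
      Disjoint ((fun y => g * y * g⁻¹) '' B) B := by
    intro g
    by_cases hdis : Disjoint ((fun y => g * y * g⁻¹) '' B) B
    · exact Or.inr hdis
    left
    obtain ⟨y, ⟨z, ⟨h, hh, rfl⟩, hy⟩, ⟨k, hk, hy'⟩⟩ := Set.not_disjoint_iff.1 hdis
    have hg : g ∈ H := by
      have h1 : k⁻¹ * g * h ∈ H := hCH _ (by
        simp only at hy hy'
        calc k⁻¹ * g * h * d * (k⁻¹ * g * h)⁻¹ = k⁻¹ * (g * (h * d * h⁻¹) * g⁻¹) * k := by group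
          _ = k⁻¹ * (k * d * k⁻¹) * k := by rw [hy, hy']
          _ = d := by group)
      have := mul_mem (mul_mem hk h1) (inv_mem hh)
      simpa [mul_assoc] using this
    ext w
    constructor
    · rintro ⟨z, ⟨h', hh', rfl⟩, rfl⟩
      exact ⟨g * h', mul_mem hg hh', by group⟩
    · rintro ⟨h', hh', rfl⟩
      exact ⟨g⁻¹ * h' * d * (g⁻¹ * h')⁻¹, ⟨g⁻¹ * h', mul_mem (inv_mem hg) hh', rfl⟩, by group⟩
  have hdB : d ∈ B := ⟨1, one_mem _, by group⟩
  have hxB : x * d * x⁻¹ ∈ B := ⟨x, Subgroup.subset_closure (Set.mem_insert _ _), rfl⟩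
  rcases hp.2.2 B hBD hblock with hs | hs
  · exact absurd (mul_inv_eq_iff_eq_mul.1 (hs hxB hdB)).symm hdx
  · rw [eq_top_iff]
    intro g _
    obtain ⟨h, hh, e⟩ : g * d * g⁻¹ ∈ B := hs.symm ▸ hD.2.1 g d hd
    have h1 : h⁻¹ * g ∈ H := hCH _ (by
      simp only at e
      calc h⁻¹ * g * d * (h⁻¹ * g)⁻¹ = h⁻¹ * (g * d * g⁻¹) * h := by group
        _ = d := by rw [← e]; group)
    have := mul_mem hh h1
    rwa [mul_inv_cancel_left] at this

/-- The automorphism group does not depend on the isomorphism type. -/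
theorem card_mulAut_congr {M : Type*} [Group M] (e : G ≃* M) :
    Nat.card (MulAut G) = Nat.card (MulAut M) :=
  Nat.card_congr
    { toFun := fun φ => e.symm.trans (φ.trans e)
      invFun := fun ψ => e.trans (ψ.trans e.symm)
      left_inv := fun φ => by ext x; simp
      right_inv := fun ψ => by ext x; simp }

/-- A group of type M(22) isomorphic to the presented group satisfies all of this. -/
theorem amb_of_iso [Finite G] {D : Set G} (hD : IsThreeTranspositionGroup D)
    (hp : IsPrimitiveUnderConj D) (h22 : IsOfTypeM22 G D) (e : G ≃* Cfsg.Spor.Fi22) : Amb D := by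
  have hcl := H99.class_of_primitive hD hp
  have hgood := H65.Fischer.m22_good hD hp h22
  refine ⟨h22.1, fun φ x hx => ?_, ?_, hgood.cent, fun d hd x hx hdx => ?_, fun d hd x hx hdx =>
    closure_insert_perp hD hp hd hx hdx (hgood.cent d hd)⟩
  · have hcl' : IsThreeTranspositionClass (φ '' D) := by
      refine ⟨⟨?_, ?_⟩, ?_, ?_⟩
      · rintro _ ⟨a, ha, rfl⟩
        rw [MulEquiv.orderOf_eq]; exact hcl.1.1 a ha
      · rintro _ ⟨a, ha, rfl⟩ _ ⟨b, hb, rfl⟩
        rw [← map_mul, ← map_pow, ← map_pow, EmbeddingLike.map_eq_one_iff,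
          EmbeddingLike.map_eq_one_iff]
        exact hcl.1.2 a ha b hb
      · obtain ⟨d, hd, hdD⟩ := hcl.2.1
        refine ⟨φ d, ⟨d, hd, rfl⟩, ?_⟩
        rw [hdD]
        ext y
        constructor
        · rintro ⟨z, hz, rfl⟩
          obtain ⟨g, rfl⟩ := isConj_iff.1 (show IsConj d z from hz)
          exact isConj_iff.2 ⟨φ g, by simp⟩
        · intro hy
          obtain ⟨g, rfl⟩ := isConj_iff.1 (show IsConj (φ d) y from hy)
          exact ⟨φ.symm g * d * (φ.symm g)⁻¹, isConj_iff.2 ⟨_, rfl⟩, by simp⟩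
      · rw [← top_le_iff]
        intro z _
        have hz : φ.symm z ∈ Subgroup.closure D := by rw [hcl.2.2]; trivial
        have := Subgroup.mem_map_of_mem φ.toMonoidHom hz
        rw [MonoidHom.map_closure] at this
        simpa using this
    rw [← H73.TT.unique_m22 hD hp h22 hcl']
    exact ⟨x, hx, rfl⟩
  · rw [card_mulAut_congr e, H33.Triple.card_mulAut_fi22, Nat.card_congr e.toEquiv]
  · refine Set.nonempty_of_ncard_ne_zero ?_
    rw [hgood.srg.nonadj d hd x hx hdx]
    norm_num

end H33.FiPair
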