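/-
The centraliser in the automorphism group of the product of two commuting transpositions acts on
the 45 classes.
-/
import Cfsg.Agent.H33.FiPair.Ambient

set_option autoImplicit false
set_option linter.unusedSectionVars false

namespace H33.FiPair

open Matrix Cfsg H50 H5.TT H5.TT.Fac H5.Gq

variable {G : Type*} [Group G] {D : Set G} {F : Type*} [Field F] [Fintype F] {d₁ d₂ : G}

/-- The centraliser of the inner automorphism of the product. -/
def CA (_ : Duo D F d₁ d₂) : Subgroup (MulAut G) :=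
  Subgroup.centralizer ({MulAut.conj (d₁ * d₂)} : Set (MulAut G))

variable (T : Duo D F d₁ d₂) (hA : Amb D)
include T hA

theorem conj_inj {a b : G} (h : MulAut.conj a = MulAut.conj b) : a = b := by
  have hm : b⁻¹ * a ∈ Subgroup.center G := Subgroup.mem_center_iff.2 fun x => by
    have := congrArg (fun e : MulAut G => e x) h
    simp only [MulAut.conj_apply] at this
    calc x * (b⁻¹ * a) = b⁻¹ * (b * x * b⁻¹) * a := by group
      _ = b⁻¹ * (a * x * a⁻¹) * a := by rw [this]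
      _ = b⁻¹ * a * x := by group
  rw [hA.triv, Subgroup.mem_bot] at hm
  exact (inv_mul_eq_one.1 hm).symm

omit hA in
theorem conj_aut (φ : MulAut G) (g : G) : φ * MulAut.conj g * φ⁻¹ = MulAut.conj (φ g) := by
  ext x
  simp [MulAut.inv_def]

theorem mem_CA {φ : MulAut G} : φ ∈ CA T ↔ φ (d₁ * d₂) = d₁ * d₂ := by
  rw [CA, Subgroup.mem_centralizer_singleton_iff]
  constructor
  · intro h
    refine conj_inj T hA ?_
    rw [← conj_aut T φ, h, mul_inv_cancel_right]
  · intro h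
    refine mul_inv_eq_iff_eq_mul.1 ?_
    rw [conj_aut T φ, h]

theorem conj_mem_CA {g : G} : MulAut.conj g ∈ CA T ↔ g ∈ T.cen := by
  rw [mem_CA T hA, Duo.cen, Subgroup.mem_centralizer_singleton_iff, MulAut.conj_apply,
    mul_inv_eq_iff_eq_mul]

theorem CA_cases {φ : MulAut G} (h : φ ∈ CA T) :
    (φ d₁ = d₁ ∧ φ d₂ = d₂) ∨ (φ d₁ = d₂ ∧ φ d₂ = d₁) := by
  have hp : d₁ * d₂ = φ d₁ * φ d₂ := by rw [← map_mul, (mem_CA T hA).1 h]
  rcases pair_unique T.tt T.set'.twin T.mem₁ T.mem₂.1 (hA.aut φ _ T.mem₁) (hA.aut φ _ T.mem₂.1)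
    T.ne.symm (fun e => T.ne (φ.injective e).symm) T.comm₁₂ (T.comm₁₂.map φ) hp with e | e
  · exact Or.inl e
  · exact Or.inr e

omit hA in
theorem commute_apply (φ : MulAut G) (x y : G) : Commute (φ x) (φ y) ↔ Commute x y :=
  ⟨fun h => φ.injective (by rw [map_mul, map_mul]; exact h.eq), fun h => h.map φ⟩

theorem perp_apply (φ : MulAut G) {d x : G} (hx : x ∈ H99.perp D d) :
    φ x ∈ H99.perp D (φ d) :=
  ⟨hA.aut φ _ hx.1, fun e => hx.2.1 (φ.injective e), hx.2.2.map φ⟩

theorem CA_X (φ : CA T) (i : Fin 45) (a : F) : ∃ j b, φ.1 (T.X i a) = T.X j b := by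
  have h1 := perp_apply T hA φ.1 (T.mem_one i a)
  have h2 := perp_apply T hA φ.1 (T.mem_two i a)
  rcases CA_cases T hA φ.2 with ⟨e1, e2⟩ | ⟨e1, e2⟩
  · rw [e1] at h1; rw [e2] at h2; exact T.exists_X h1 h2
  · rw [e1] at h1; rw [e2] at h2; exact T.exists_X h2 h1

/-- The image of a class under an automorphism. -/
noncomputable def cimg (φ : CA T) (i : Fin 45) : Fin 45 := (CA_X T hA φ i 0).choose

theorem cimg_spec (φ : CA T) (i : Fin 45) (a : F) :
    ∃ b, φ.1 (T.X i a) = T.X (cimg T hA φ i) b := by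
  obtain ⟨b₀, hb₀⟩ := (CA_X T hA φ i 0).choose_spec
  obtain ⟨j, b, hb⟩ := CA_X T hA φ i a
  suffices hj : cimg T hA φ i = j by exact ⟨b, hj ▸ hb⟩
  refine nbhd_inj _ _ fun k => ?_
  obtain ⟨k', c, hk'⟩ := CA_X T hA φ⁻¹ k 0
  have hX : φ.1 (T.X k' c) = T.X k 0 := by
    rw [← hk', Subgroup.coe_inv, MulAut.inv_def, MulEquiv.apply_symm_apply]
  have e1 : Commute (T.X (cimg T hA φ i) b₀) (T.X k 0) ↔ Commute (T.X j b) (T.X k 0) := by
    rw [cimg, ← hb₀, ← hb, ← hX, commute_apply T, commute_apply T, T.commute_X, T.commute_X]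
  rw [T.commute_X, T.commute_X] at e1
  rw [Bool.eq_iff_iff]
  simp only [Bool.or_eq_true, decide_eq_true_eq]
  simpa only [eq_comm] using e1

theorem cimg_eq (φ : CA T) {i j : Fin 45} {a b : F} (h : φ.1 (T.X i a) = T.X j b) :
    cimg T hA φ i = j := by
  obtain ⟨c, hc⟩ := cimg_spec T hA φ i a
  exact (T.X_inj (hc.symm.trans h)).1

theorem cimg_mul (φ ψ : CA T) (i : Fin 45) :
    cimg T hA (φ * ψ) i = cimg T hA φ (cimg T hA ψ i) := by
  obtain ⟨b, hb⟩ := cimg_spec T hA ψ i 0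
  obtain ⟨c, hc⟩ := cimg_spec T hA φ (cimg T hA ψ i) b
  refine cimg_eq T hA _ (a := 0) (b := c) ?_
  rw [← hc, ← hb, Subgroup.coe_mul, MulAut.mul_apply]

theorem cimg_one (i : Fin 45) : cimg T hA 1 i = i :=
  cimg_eq T hA _ (a := 0) (b := 0) (by simp)

theorem cimg_adj (φ : CA T) (i j : Fin 45) :
    adj (cimg T hA φ i) (cimg T hA φ j) = adj i j := by
  obtain ⟨a, ha⟩ := cimg_spec T hA φ i 0
  obtain ⟨b, hb⟩ := cimg_spec T hA φ j 0
  have h : (cimg T hA φ i = cimg T hA φ j ∨ adj (cimg T hA φ i) (cimg T hA φ j) = true) ↔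
      (i = j ∨ adj i j = true) := by
    rw [← T.commute_X _ _ a b, ← ha, ← hb, commute_apply T, T.commute_X]
  have hinj : cimg T hA φ i = cimg T hA φ j → i = j := fun e => by
    have := congrArg (cimg T hA φ⁻¹) e
    rwa [← cimg_mul, ← cimg_mul, inv_mul_cancel, cimg_one, cimg_one] at this
  rcases eq_or_ne i j with rfl | hne
  · rw [adj_irrefl, adj_irrefl]
  · rw [Bool.eq_iff_iff]
    exact ⟨fun e => (h.1 (Or.inr e)).resolve_left hne,
      fun e => (h.2 (Or.inr e)).resolve_left fun e' => hne (hinj e')⟩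

/-- The action of the centraliser in the automorphism group. -/
noncomputable def cact : CA T →* autAdj where
  toFun φ := ⟨⟨cimg T hA φ, cimg T hA φ⁻¹,
    fun i => by rw [← cimg_mul, inv_mul_cancel, cimg_one],
    fun i => by rw [← cimg_mul, mul_inv_cancel, cimg_one]⟩, fun i j => cimg_adj T hA φ i j⟩
  map_one' := Subtype.ext (Equiv.ext fun i => cimg_one T hA i)
  map_mul' φ ψ := Subtype.ext (Equiv.ext fun i => cimg_mul T hA φ ψ i)

/-- Inner automorphisms from the centraliser. -/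
noncomputable def inner : T.cen →* CA T where
  toFun g := ⟨MulAut.conj (g : G), (conj_mem_CA T hA).2 g.2⟩
  map_one' := Subtype.ext (map_one _)
  map_mul' g h := Subtype.ext (map_mul _ _ _)

theorem cimg_inner (g : T.cen) (i : Fin 45) : cimg T hA (inner T hA g) i = T.img g i := by
  obtain ⟨b, hb⟩ := T.img_spec g i 0
  exact cimg_eq T hA _ (a := 0) (b := b) hb

theorem cact_inner (g : T.cen) : cact T hA (inner T hA g) = T.act g :=
  Subtype.ext (Equiv.ext fun i => cimg_inner T hA g i)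

theorem inner_injective : Function.Injective (inner T hA) := fun g h e =>
  Subtype.ext (conj_inj T hA (congrArg Subtype.val e))

/-- The kernel of the action, in the automorphism group. -/
noncomputable def Q₀ : Subgroup (MulAut G) := (cact T hA).ker.map (CA T).subtype

theorem Q₀_le : Q₀ T hA ≤ CA T := Subgroup.map_subtype_le _

theorem mem_Q₀ {φ : MulAut G} :
    φ ∈ Q₀ T hA ↔ φ ∈ CA T ∧ ∀ i a, ∃ b, φ (T.X i a) = T.X i b := by
  constructor
  · rintro ⟨φ, hφ, rfl⟩
    refine ⟨φ.2, fun i a => ?_⟩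
    obtain ⟨b, hb⟩ := cimg_spec T hA φ i a
    have : cimg T hA φ i = i := Equiv.ext_iff.1 (congrArg Subtype.val (MonoidHom.mem_ker.1 hφ)) i
    rw [this] at hb
    exact ⟨b, hb⟩
  · rintro ⟨hφ, h⟩
    refine ⟨⟨φ, hφ⟩, MonoidHom.mem_ker.2 (Subtype.ext (Equiv.ext fun i => ?_)), rfl⟩
    obtain ⟨b, hb⟩ := h i 0
    exact cimg_eq T hA ⟨φ, hφ⟩ hb

theorem Q₀_subgroupOf : (Q₀ T hA).subgroupOf (CA T) = (cact T hA).ker :=
  Subgroup.comap_map_eq_self_of_injective (CA T).subtype_injective _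

theorem conj_mem_Q₀ {g : G} : MulAut.conj g ∈ Q₀ T hA ↔ g ∈ T.ker := by
  rw [mem_Q₀ T hA, conj_mem_CA T hA, T.mem_ker]
  rfl

/-- Every automorphism is inner times one fixing both transpositions. -/
theorem exists_fixing [Finite G] (φ : MulAut G) :
    ∃ g : G, ((MulAut.conj g)⁻¹ * φ) d₁ = d₁ ∧ ((MulAut.conj g)⁻¹ * φ) d₂ = d₂ := by
  obtain ⟨g, hg⟩ := H99.class_isConj T.set'.cls T.mem₁ (hA.aut φ _ T.mem₁)
  have h2 : g⁻¹ * φ d₂ * g ∈ H99.perp D d₁ := by
    have h := H99.perp_conj (fun g _ hx => T.conjD g hx) g⁻¹ (perp_apply T hA φ T.mem₂)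
    rwa [inv_inv, show g⁻¹ * φ d₁ * g = d₁ by rw [← hg]; group] at h
  obtain ⟨k, hk, e⟩ := T.set'.perp_trans T.mem₁ T.mem₂ h2
  refine ⟨g * k, ?_, ?_⟩
  · rw [MulAut.mul_apply, ← map_inv, MulAut.conj_apply, ← hg,
      show (g * k)⁻¹ * (g * d₁ * g⁻¹) * (g * k)⁻¹⁻¹ = k⁻¹ * (d₁ * k) by group, ← hk.eq,
      inv_mul_cancel_left]
  · rw [MulAut.mul_apply, ← map_inv, MulAut.conj_apply,
      show (g * k)⁻¹ * φ d₂ * (g * k)⁻¹⁻¹ = k⁻¹ * (g⁻¹ * φ d₂ * g) * k by group, ← e]
    group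

theorem card_CA [Finite G] : Nat.card (CA T) = 2 * Nat.card T.cen := by
  have h3 : Function.Injective (MulAut.conj (G := G)) := fun a b => conj_inj T hA
  have hInn : Nat.card (Cfsg.Inn G) = Nat.card G :=
    (Nat.card_congr (MonoidHom.ofInjective h3).toEquiv).symm
  haveI : (Cfsg.Inn G).Normal := inferInstance
  let π := (QuotientGroup.mk' (Cfsg.Inn G)).comp (CA T).subtype
  have hsurj : Function.Surjective π := fun x => by
    obtain ⟨φ, rfl⟩ := QuotientGroup.mk'_surjective _ x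
    obtain ⟨g, e1, e2⟩ := exists_fixing T hA φ
    refine ⟨⟨(MulAut.conj g)⁻¹ * φ, (mem_CA T hA).2 (by rw [map_mul, e1, e2])⟩, ?_⟩
    show QuotientGroup.mk' _ ((MulAut.conj g)⁻¹ * φ) = _
    have h1 : QuotientGroup.mk' (Cfsg.Inn G) (MulAut.conj g) = 1 :=
      (QuotientGroup.eq_one_iff (N := Cfsg.Inn G) _).2 ⟨g, rfl⟩
    rw [map_mul, map_inv, h1, inv_one, one_mul]
  have hker : Nat.card π.ker = Nat.card T.cen := by
    refine (Nat.card_eq_of_bijective (fun g : T.cen => (⟨inner T hA g, MonoidHom.mem_ker.2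
      ((QuotientGroup.eq_one_iff _).2 ⟨(g : G), rfl⟩)⟩ : π.ker)) ⟨fun g h e => ?_, fun φ => ?_⟩).symm
    · exact inner_injective T hA (congrArg Subtype.val e)
    · obtain ⟨g, hg⟩ := (QuotientGroup.eq_one_iff _).1 (MonoidHom.mem_ker.1 φ.2)
      exact ⟨⟨g, (conj_mem_CA T hA).1 (hg.symm ▸ φ.1.2)⟩, Subtype.ext (Subtype.ext hg)⟩
  have hquot : Nat.card (MulAut G ⧸ Cfsg.Inn G) = 2 := by
    have h := Subgroup.card_eq_card_quotient_mul_card_subgroup (Cfsg.Inn G)
    rw [hA.card, hInn] at h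
    exact (Nat.eq_of_mul_eq_mul_right Nat.card_pos h).symm
  rw [Subgroup.card_eq_card_quotient_mul_card_subgroup π.ker,
    Nat.card_congr (QuotientGroup.quotientKerEquivOfSurjective π hsurj).toEquiv, hquot, hker]

theorem quot_CA [Finite G] : Nat.card (Q₀ T hA) = 2048 ∧
    Nonempty (↥(CA T) ⧸ (cact T hA).ker ≃* Cfsg.isometryGroup (ZMod 2) qf) := by
  let ψ := toO.comp (cact T hA)
  have hker : ψ.ker = (cact T hA).ker := by
    ext g
    rw [MonoidHom.mem_ker, MonoidHom.mem_ker, MonoidHom.comp_apply, ← map_one toO,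
      toO_injective.eq_iff]
  obtain ⟨e⟩ := T.quot_iso
  have hcard : Nat.card (T.act).range = Nat.card (Cfsg.isometryGroup (ZMod 2) qf) :=
    (Nat.card_congr (QuotientGroup.quotientKerEquivRange T.act).toEquiv).symm.trans
      (Nat.card_congr e.toEquiv)
  have hle : T.act.range ≤ (cact T hA).range := by
    rintro s ⟨g, rfl⟩
    exact ⟨inner T hA g, cact_inner T hA g⟩
  have hsurj : Function.Surjective ψ := by
    rw [← MonoidHom.range_eq_top]
    refine Subgroup.eq_top_of_le_card _ ?_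
    rw [← hcard, MonoidHom.range_comp,
      ← Nat.card_congr ((cact T hA).range.equivMapOfInjective toO toO_injective).toEquiv]
    exact Subgroup.card_le_of_le hle
  have e' := (QuotientGroup.quotientMulEquivOfEq hker.symm).trans
    (QuotientGroup.quotientKerEquivOfSurjective ψ hsurj)
  refine ⟨?_, ⟨e'⟩⟩
  have h := Subgroup.card_eq_card_quotient_mul_card_subgroup (cact T hA).ker
  have hk : Nat.card T.act.ker = 1024 := by
    rw [← T.card_ker]
    exact Nat.card_congr
      (T.act.ker.equivMapOfInjective T.cen.subtype T.cen.subtype_injective).toEquiv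
  have h' := Subgroup.card_eq_card_quotient_mul_card_subgroup T.act.ker
  have hk' := Nat.card_congr
    ((cact T hA).ker.equivMapOfInjective (CA T).subtype (CA T).subtype_injective).toEquiv
  have hO := Nat.card_congr e.toEquiv
  have hO' := Nat.card_congr e'.toEquiv
  have hpos : 0 < Nat.card (Cfsg.isometryGroup (ZMod 2) qf) := by
    rw [← hcard]; exact Nat.card_pos
  have hC := card_CA T hA
  show Nat.card ↥((cact T hA).ker.map (CA T).subtype) = 2048
  rw [← hk']
  generalize Nat.card ↥(cact T hA).ker = k at h ⊢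
  generalize Nat.card ↥(CA T) = a at h hC
  generalize Nat.card ↥T.cen = c at h' hC
  generalize Nat.card ↥T.act.ker = m at h' hk
  generalize Nat.card (↥(CA T) ⧸ (cact T hA).ker) = q' at h hO'
  generalize Nat.card (↥T.cen ⧸ T.act.ker) = q at h' hO
  generalize Nat.card (Cfsg.isometryGroup (ZMod 2) qf) = o at hO hO' hpos
  subst hO hO' hC h' hk
  exact (Nat.eq_of_mul_eq_mul_left hpos (h.symm.trans (by ring)) : k = 2048)

end H33.FiPair
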