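/-
Automorphisms fixing all classes act on each class by a translation; those which are not inner
exchange the two transpositions.
-/
import Cfsg.Agent.H33.FiPair.Action

set_option autoImplicit false
set_option linter.unusedSectionVars false

namespace H33.FiPair

open Matrix Cfsg H50 H5.TT H5.TT.Fac H5.Gq

variable {G : Type*} [Group G] [Finite G] {D : Set G} {F : Type*} [Field F] [Fintype F] {d₁ d₂ : G}
  (T : Duo D F d₁ d₂) (hA : Amb D)
include T hA

theorem index_inn : (Cfsg.Inn G).index = 2 := by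
  have hInn : Nat.card (Cfsg.Inn G) = Nat.card G :=
    (Nat.card_congr (MonoidHom.ofInjective fun a b => conj_inj T hA (a := a) (b := b)).toEquiv).symm
  have h := Subgroup.card_mul_index (Cfsg.Inn G)
  rw [hInn, hA.card, mul_comm 2] at h
  exact Nat.eq_of_mul_eq_mul_left Nat.card_pos h

theorem translation {φ : MulAut G} (hφ : φ ∈ Q₀ T hA) :
    ∃ τ : Fin 45 → F, ∀ i a, φ (T.X i a) = T.X i (a + τ i) := by
  obtain ⟨hφc, hfix⟩ := (mem_Q₀ T hA).1 hφ
  choose f hf using hfix
  have hfinj : ∀ i, Function.Injective (f i) := fun i a b h => by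
    refine (T.X_inj (φ.injective ?_ : T.X i a = T.X i b)).2
    rw [hf, hf, h]
  have hstep : ∀ {i j r : Fin 45} {s : F}, s ≠ 0 →
      P i + hermForm 4 F 2 (P (F := F) i) (P j) • P j = s • (P r : Fin 4 → F) → ∀ a c,
      f r ((a + hermForm 4 F 2 (P (F := F) i) (P j) * c) / s) =
        (f i a + hermForm 4 F 2 (P (F := F) i) (P j) * f j c) / s := by
    intro i j r s hs h a c
    refine (T.X_inj (i := r) (j := r) ?_).2
    rw [← hf, ← T.conj_step hs h a c, map_mul, map_mul, map_inv, hf i a, hf j c,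
      ← T.conj_step hs h]
  set d : Fin 45 → F → F := fun i a => f i a + f i 0 with hd
  have h2 := fun x : F => U2.add_self T.hF x
  have hlin : ∀ {i j r : Fin 45} {s : F}, s ≠ 0 →
      P i + hermForm 4 F 2 (P (F := F) i) (P j) • P j = s • (P r : Fin 4 → F) → ∀ a,
      d r (a / s) = d i a / s := by
    intro i j r s hs h a
    have e1 := hstep hs h a 0
    have e2 := hstep hs h 0 0
    rw [mul_zero, add_zero] at e1 e2
    rw [zero_div] at e2
    simp only [hd]
    rw [e1, e2, ← add_div]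
    congr 1
    linear_combination h2 (hermForm 4 F 2 (P (F := F) i) (P j) * f j 0)
  obtain ⟨l1, l2, l3⟩ := loop_codes
  have hom0 : (om : F) ≠ 0 := (T.five_elts.2.1).symm
  have s1 := hlin (s := (emb 1 : F)) one_ne_zero (step_of_code T.hF l1)
  have s2 := hlin (s := (emb 1 : F)) one_ne_zero (step_of_code T.hF l2)
  have s3 := hlin (s := (emb 2 : F)) hom0 (step_of_code T.hF l3)
  have hhol : ∀ a, d 15 (a / om) = d 15 a / om := by
    intro a
    have e1 := s1 a
    have e2 := s2 a
    have e3 := s3 a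
    simp only [show (emb 1 : F) = 1 from rfl, show (emb 2 : F) = om from rfl, div_one] at e1 e2 e3
    rw [e3, e2, e1]
  set t := d 15 1 with ht
  have hmul : ∀ a, d 15 (om * a) = om * d 15 a := fun a => by
    have := hhol (om * a)
    rw [mul_div_cancel_left₀ _ hom0] at this
    rw [this, mul_div_cancel₀ _ hom0]
  have key15 : ∀ a, d 15 a = t * a := by
    intro a
    obtain ⟨c, rfl⟩ := emb_surj T.hF a
    fin_cases c
    · show f 15 0 + f 15 0 = t * 0
      rw [h2, mul_zero]
    · show d 15 1 = t * 1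
      rw [mul_one, ht]
    · show d 15 om = t * om
      rw [mul_comm, ht, ← hmul 1, mul_one]
    · show d 15 (om + 1) = t * (om + 1)
      rw [← om_sq T.hF, hmul, show d 15 om = t * om by rw [mul_comm, ht, ← hmul 1, mul_one]]
      ring
  have hgo : ∀ i r, i ≠ r → adj i r = false → (∀ a, d i a = t * a) → ∀ a, d r a = t * a := by
    intro i r hne hadj hi a
    obtain ⟨j, s, hs, h⟩ := connect_codes i r hne hadj
    have hs' : (emb s : F) ≠ 0 := mt (emb_eq_zero T.hF).1 hs
    have := hlin hs' (step_of_code T.hF h) (a * emb s)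
    rw [hi, mul_div_cancel_right₀ _ hs', ← mul_assoc, mul_div_cancel_right₀ _ hs'] at this
    exact this
  have key : ∀ i a, f i a = t * a + f i 0 := by
    intro i a
    obtain ⟨k, ⟨h1, h1'⟩, ⟨h3, h3'⟩⟩ := connect_adj 15 i
    have := hgo k i h3.symm h3' (hgo 15 k h1.symm h1' key15) a
    rw [← this, hd, add_assoc, h2, add_zero]
  -- the square is inner, so the multiplier is one
  obtain ⟨g, hg⟩ : φ * φ ∈ Cfsg.Inn G :=
    Subgroup.mul_self_mem_of_index_two (index_inn T hA) φ
  have hgk : g ∈ T.ker := (conj_mem_Q₀ T hA).1 (hg ▸ mul_mem hφ hφ)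
  have hsq : ∀ a, t * (t * a + f 15 0) + f 15 0 = a + T.al ⟨g, hgk⟩ ⬝ᵥ P 15 := by
    intro a
    refine (T.X_inj (i := 15) (j := 15) ?_).2
    rw [← key, ← key, ← hf, ← hf, ← T.al_spec ⟨g, hgk⟩ 15 a, ← MulAut.mul_apply, ← hg,
      MulAut.conj_apply]
  have ht2 : t * t = 1 := by linear_combination hsq 1 - hsq 0
  have ht1 : t = 1 := by
    have : (t + 1) ^ 2 = 0 := by linear_combination ht2 + h2 t + h2 1
    have := eq_zero_of_pow_eq_zero this
    linear_combination this - h2 1
  exact ⟨fun i => f i 0, fun i a => by rw [hf, key, ht1, one_mul]⟩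

/-- The main step: an automorphism fixing all classes, both transpositions and one far member is
inner. -/
theorem inner_of_fixes {ψ : MulAut G} (hψ : ψ ∈ Q₀ T hA) (e1 : ψ d₁ = d₁) (e2 : ψ d₂ = d₂)
    {y : G} (hy : y ∈ far T) (hfy : ψ y = y) : ψ ∈ Cfsg.Inn G := by
  obtain ⟨τ, hτ⟩ := translation T hA hψ
  have hX : ∀ i a, ψ (T.X i a) = T.X i a := by
    intro i a
    obtain ⟨c, hc⟩ := far_exists T hy i
    have h1 : Commute (ψ y) (ψ (T.X i c)) := hc.map ψ
    rw [hfy, hτ] at h1
    rw [hτ, left_eq_add.mp (far_unique T hy hc h1), add_zero]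
  have hker : ∀ k ∈ T.ker, ψ k = k := by
    intro k hk
    have : T.pairGen ≤ MonoidHom.eqLocus ψ.toMonoidHom (MonoidHom.id G) := by
      refine (Subgroup.closure_le _).2 ?_
      rintro x ((rfl | rfl) | ⟨j, a, b, -, rfl⟩)
      · exact e1
      · exact e2
      · show ψ (T.X j a * T.X j b) = T.X j a * T.X j b
        rw [map_mul, hX, hX]
    exact this (T.ker_le_pairGen hk)
  have hperp : ∀ x ∈ H99.perp D d₁, ψ x = x := by
    intro x hx
    rcases perp_cases T hx with rfl | ⟨i, a, rfl⟩ | h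
    · exact e2
    · exact hX i a
    · obtain ⟨k, hk, rfl⟩ := far_trans T hy h
      rw [map_mul, map_mul, map_inv, hker k hk, hfy]
  have hout : ∀ x ∈ D, ¬ Commute d₁ x → ψ x = x ∨ ψ x = d₁ * x * d₁⁻¹ := by
    intro x hx hdx
    obtain ⟨s, hs1, hs2⟩ := hA.link d₁ T.mem₁ x hx hdx
    obtain ⟨T'⟩ := T.set'.exists_duo hs1.1 T.mem₁ hs1.2.1 hs1.2.2.symm
    have hxs : x ∈ H99.perp D s := H65.Fischer.perp_mem_symm hx hs2
    have hx' : x ∈ far T' := ⟨hxs, fun h => hdx h.symm⟩
    have hψx : ψ x ∈ far T' := by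
      refine ⟨?_, fun h => hdx ((commute_apply T ψ d₁ x).1 ?_)⟩
      · have := perp_apply T hA ψ hxs
        rwa [hperp s hs1] at this
      · rw [e1]; exact h.symm
    refine far_near T' hx' hψx fun i a hc => ?_
    have hX' : ψ (T'.X i a) = T'.X i a := hperp _ (T'.mem_two i a)
    rw [← hX']
    exact hc.map ψ
  by_cases hsome : ∃ x ∈ D, ¬ Commute d₁ x ∧ ψ x = x
  · obtain ⟨x, hx, hdx, hfx⟩ := hsome
    have h : (⊤ : Subgroup G) ≤ MonoidHom.eqLocus ψ.toMonoidHom (MonoidHom.id G) := by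
      rw [← hA.top d₁ T.mem₁ x hx hdx]
      refine (Subgroup.closure_le _).2 ?_
      rintro z (rfl | hz)
      · exact hfx
      · exact hperp z hz
    exact ⟨1, by rw [map_one]; exact MulEquiv.ext fun z => (h (Subgroup.mem_top z)).symm⟩
  · push Not at hsome
    refine ⟨d₁, MulEquiv.ext fun z => ?_⟩
    have h : (⊤ : Subgroup G) ≤
        MonoidHom.eqLocus ψ.toMonoidHom (MulAut.conj d₁).toMonoidHom := by
      rw [← T.set'.cls.2.2]
      refine (Subgroup.closure_le _).2 fun x hx => ?_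
      show ψ x = d₁ * x * d₁⁻¹
      by_cases hdx : Commute d₁ x
      · rw [hdx.eq, mul_inv_cancel_right]
        rcases eq_or_ne x d₁ with rfl | hne
        · exact e1
        · exact hperp x ⟨hx, hne, hdx⟩
      · exact (hout x hx hdx).resolve_left (hsome x hx hdx)
    exact (h (Subgroup.mem_top z)).symm

/-- An element of the kernel which is not inner exchanges the two transpositions. -/
theorem outer_swaps {φ : MulAut G} (hφ : φ ∈ Q₀ T hA) (hout : φ ∉ Cfsg.Inn G) :
    φ d₁ = d₂ ∧ φ d₂ = d₁ := by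
  rcases CA_cases T hA (Q₀_le T hA hφ) with ⟨e1, e2⟩ | h
  swap
  · exact h
  exfalso
  obtain ⟨y, hy, -⟩ := far_pair T
  have hφy : φ y ∈ far T := by
    refine ⟨?_, fun h => hy.2 ((commute_apply T φ y d₂).1 (by rw [e2]; exact h))⟩
    have := perp_apply T hA φ hy.1
    rwa [e1] at this
  obtain ⟨k, hk, hky⟩ := far_trans T hy hφy
  have hψ : (MulAut.conj k)⁻¹ * φ ∈ Q₀ T hA :=
    mul_mem (inv_mem ((conj_mem_Q₀ T hA).2 hk)) hφ
  obtain ⟨hk1, hk2⟩ := T.ker_commute hk
  have hin := inner_of_fixes T hA hψ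
    (by rw [MulAut.mul_apply, e1, ← map_inv, MulAut.conj_apply, inv_inv, hk1.inv_left.eq,
      inv_mul_cancel_right])
    (by rw [MulAut.mul_apply, e2, ← map_inv, MulAut.conj_apply, inv_inv, hk2.inv_left.eq,
      inv_mul_cancel_right]) hy
    (by rw [MulAut.mul_apply, ← hky, ← map_inv, MulAut.conj_apply]; group)
  exact hout (by simpa using mul_mem (show MulAut.conj k ∈ Cfsg.Inn G from ⟨k, rfl⟩) hin)

end H33.FiPair
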