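/-
The kernel of the action on the classes is a large extraspecial subgroup of order 2^11 and the
generalised Fitting subgroup of the centraliser.
-/
import Cfsg.Agent.H33.FiPair.Kernel
import Cfsg.Agent.H20.AutPSU4Two
import Cfsg.Prelude.Def_MonsterType
import Mathlib.GroupTheory.FixedPointFree

set_option autoImplicit false
set_option linter.unusedSectionVars false

namespace H33.FiPair

open Matrix Cfsg H50 H5.TT H5.TT.Fac H5.Gq

variable {G : Type*} [Group G] [Finite G] {D : Set G} {F : Type*} [Field F] [Fintype F] {d₁ d₂ : G}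
  (T : Duo D F d₁ d₂) (hA : Amb D)
include T hA

theorem isPGroup_Q₀ : IsPGroup 2 (Q₀ T hA) :=
  IsPGroup.of_card (n := 11) (by rw [(quot_CA T hA).1]; norm_num)

theorem j_mem_Q₀ : MulAut.conj (d₁ * d₂) ∈ Q₀ T hA :=
  (conj_mem_Q₀ T hA).2 (mul_mem T.d₁_mem_ker T.d₂_mem_ker)

theorem order_j : orderOf (MulAut.conj (d₁ * d₂)) = 2 :=
  (orderOf_injective (MulAut.conj (G := G)) (fun _ _ => conj_inj T hA) _).trans T.order_prod

theorem j_commute {φ : MulAut G} (hφ : φ ∈ Q₀ T hA) : Commute φ (MulAut.conj (d₁ * d₂)) :=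
  (Subgroup.mem_centralizer_singleton_iff.1 (Q₀_le T hA hφ))

theorem exists_outer : ∃ φ ∈ Q₀ T hA, φ ∉ Cfsg.Inn G := by
  by_contra hno
  push Not at hno
  have hle : Q₀ T hA ≤ T.ker.map (MulAut.conj (G := G)) := fun φ hφ => by
    obtain ⟨g, hg⟩ := hno φ hφ
    exact ⟨g, (conj_mem_Q₀ T hA).1 (hg.symm ▸ hφ), hg⟩
  have h := Subgroup.card_le_of_le hle
  rw [(quot_CA T hA).1, ← Nat.card_congr (T.ker.equivMapOfInjective _
    fun a b => conj_inj T hA (a := a) (b := b)).toEquiv, T.card_ker] at h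
  norm_num at h

theorem sq_mem_j {φ : MulAut G} (hφ : φ ∈ Q₀ T hA) :
    φ ^ 2 ∈ Subgroup.zpowers (MulAut.conj (d₁ * d₂)) := by
  have hmap : ∀ {g : G}, g ∈ Subgroup.zpowers (d₁ * d₂) →
      MulAut.conj g ∈ Subgroup.zpowers (MulAut.conj (d₁ * d₂)) := fun hg => by
    obtain ⟨n, rfl⟩ := Subgroup.mem_zpowers_iff.1 hg
    exact Subgroup.mem_zpowers_iff.2 ⟨n, (map_zpow _ _ _).symm⟩
  by_cases hin : φ ∈ Cfsg.Inn G
  · obtain ⟨g, rfl⟩ := hin
    rw [← map_pow]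
    exact hmap (T.sq_mem ((conj_mem_Q₀ T hA).1 hφ))
  · obtain ⟨s1, s2⟩ := outer_swaps T hA hφ hin
    obtain ⟨g, hg⟩ : φ * φ ∈ Cfsg.Inn G :=
      Subgroup.mul_self_mem_of_index_two (index_inn T hA) φ
    have hgk : g ∈ T.ker := (conj_mem_Q₀ T hA).1 (hg ▸ mul_mem hφ hφ)
    have hfix : φ g = g := conj_inj T hA (by rw [← conj_aut T φ, hg]; group)
    obtain ⟨τ, hτ⟩ := translation T hA hφ
    have hal : T.al ⟨g, hgk⟩ = 0 := T.al_eq _ fun i => by
      rw [zero_dotProduct]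
      show g * T.X i 0 * g⁻¹ = T.X i 0
      rw [← MulAut.conj_apply, hg, MulAut.mul_apply, hτ, hτ, zero_add, U2.add_self T.hF]
    rw [pow_two, ← hg]
    refine hmap ?_
    rcases T.mem_span.1 ((T.al_span ⟨g, hgk⟩).1 hal) with h | h | h | h
    · rw [show g = 1 from h]; exact one_mem _
    · exact absurd (((show g = d₁ from h) ▸ hfix).symm.trans s1) T.ne.symm
    · exact absurd (((show g = d₂ from h) ▸ hfix).symm.trans s2) T.ne
    · rw [show g = d₁ * d₂ from h]; exact Subgroup.mem_zpowers _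

theorem comm_mem_j {φ ψ : MulAut G} (hφ : φ ∈ Q₀ T hA) (hψ : ψ ∈ Q₀ T hA) :
    φ * ψ * φ⁻¹ * ψ⁻¹ ∈ Subgroup.zpowers (MulAut.conj (d₁ * d₂)) := by
  have hc : Commute ψ⁻¹ (φ ^ 2)⁻¹ := by
    obtain ⟨n, hn⟩ := Subgroup.mem_zpowers_iff.1 (sq_mem_j T hA hφ)
    rw [← hn]
    exact ((j_commute T hA hψ).zpow_right n).inv_left.inv_right
  rw [show φ * ψ * φ⁻¹ * ψ⁻¹ = (φ * ψ) ^ 2 * (ψ⁻¹ * (φ ^ 2)⁻¹ * ψ⁻¹) by
    rw [pow_two, pow_two]; group, hc.eq, mul_assoc ((φ ^ 2)⁻¹), ← pow_two, inv_pow]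
  exact mul_mem (sq_mem_j T hA (mul_mem hφ hψ))
    (mul_mem (inv_mem (sq_mem_j T hA hφ)) (inv_mem (sq_mem_j T hA hψ)))

theorem centralizer_Q₀ :
    Subgroup.centralizer (Q₀ T hA : Set (MulAut G)) =
      Subgroup.zpowers (MulAut.conj (d₁ * d₂)) := by
  refine le_antisymm (fun φ hφ => ?_) (Subgroup.zpowers_le.2
    (Subgroup.mem_centralizer_iff.2 fun ψ hψ => (j_commute T hA hψ).eq))
  have hfix : ∀ e ∈ T.ker, φ e = e := fun e he => conj_inj T hA (by
    rw [← conj_aut T φ, ← Subgroup.mem_centralizer_iff.1 hφ _ ((conj_mem_Q₀ T hA).2 he),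
      mul_inv_cancel_right])
  have hCA : φ ∈ CA T := (mem_CA T hA).2 (hfix _ (mul_mem T.d₁_mem_ker T.d₂_mem_ker))
  obtain ⟨n01, -⟩ := T.five_elts
  have hφQ : φ ∈ Q₀ T hA := by
    refine (mem_Q₀ T hA).2 ⟨hCA, fun i a => ?_⟩
    obtain ⟨b, hab⟩ : ∃ b, a ≠ b := by
      rcases eq_or_ne a 0 with rfl | h
      · exact ⟨1, n01⟩
      · exact ⟨0, h⟩
    have hne' : T.X i a ≠ T.X i b := fun e => hab (T.X_inj e).2
    have hcab : Commute (T.X i a) (T.X i b) := (T.commute_X _ _ _ _).2 (Or.inl rfl)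
    have hp : T.X i a * T.X i b = φ (T.X i a) * φ (T.X i b) := by
      rw [← map_mul, hfix _ (T.pair_mem_ker i a b)]
    rcases pair_unique T.tt T.set'.twin (T.X_mem i a) (T.X_mem i b) (hA.aut φ _ (T.X_mem i a))
      (hA.aut φ _ (T.X_mem i b)) hne' (fun e => hne' (φ.injective e)) hcab (hcab.map φ) hp
      with e | e
    · exact ⟨a, e.1⟩
    · exact ⟨b, e.1⟩
  by_cases hin : φ ∈ Cfsg.Inn G
  swap
  · exact absurd ((hfix _ T.d₁_mem_ker).symm.trans (outer_swaps T hA hφQ hin).1) T.ne.symm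
  obtain ⟨g, rfl⟩ := hin
  have hgV : g ∈ Subgroup.closure ({d₁, d₂} : Set G) :=
    T.centralizer_ker ((conj_mem_CA T hA).1 hCA) fun h hh => mul_inv_eq_iff_eq_mul.1 (hfix h hh)
  obtain ⟨α, hα, hαo⟩ := exists_outer T hA
  have hαg : α g = g := conj_inj T hA (by
    rw [← conj_aut T α, Subgroup.mem_centralizer_iff.1 hφ α hα, mul_inv_cancel_right])
  obtain ⟨s1, s2⟩ := outer_swaps T hA hα hαo
  rcases T.mem_span.1 hgV with rfl | rfl | rfl | rfl
  · rw [map_one]; exact one_mem _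
  · exact absurd (hαg.symm.trans s1) T.ne.symm
  · exact absurd (hαg.symm.trans s2) T.ne
  · exact Subgroup.mem_zpowers _

theorem extraspecial_Q₀ : IsExtraspecial 2 (Q₀ T hA) := by
  haveI : Fact (Nat.Prime 2) := ⟨Nat.prime_two⟩
  set z : Q₀ T hA := ⟨_, j_mem_Q₀ T hA⟩ with hz
  have hzp : ∀ x : Q₀ T hA, (x : MulAut G) ∈ Subgroup.zpowers (MulAut.conj (d₁ * d₂)) →
      x ∈ Subgroup.zpowers z := by
    intro x hx
    obtain ⟨k, hk⟩ := Subgroup.mem_zpowers_iff.1 hx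
    exact Subgroup.mem_zpowers_iff.2 ⟨k, Subtype.ext (by rw [Subgroup.coe_zpow]; exact hk)⟩
  refine extraspecial_congr Subgroup.topEquiv (H30.isExtraspecial_subgroup (isPGroup_Q₀ T hA)
    (H := ⊤) (z := z) ((Subgroup.orderOf_coe z).symm.trans (order_j T hA)) trivial
    (Subgroup.mem_centralizer_iff.2 fun x _ => Subtype.ext (j_commute T hA x.2).eq) ?_
    (fun a _ b _ => hzp _ (comm_mem_j T hA a.2 b.2)) (fun a _ => hzp _ (sq_mem_j T hA a.2)) ?_)
  · rintro x ⟨-, hx⟩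
    refine hzp x ?_
    rw [← centralizer_Q₀ T hA]
    exact Subgroup.mem_centralizer_iff.2 fun y hy =>
      congrArg Subtype.val (Subgroup.mem_centralizer_iff.1 hx (⟨y, hy⟩ : Q₀ T hA) trivial)
  · intro hle
    have h := Subgroup.card_le_of_le hle
    rw [Subgroup.card_top, (quot_CA T hA).1, Nat.card_zpowers, ← Subgroup.orderOf_coe,
      show ((z : Q₀ T hA) : MulAut G) = MulAut.conj (d₁ * d₂) from rfl, order_j T hA] at h
    norm_num at h

theorem center_Q₀ :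
    (Subgroup.center (Q₀ T hA)).map (Q₀ T hA).subtype =
      Subgroup.zpowers (MulAut.conj (d₁ * d₂)) := by
  refine le_antisymm ?_ (Subgroup.zpowers_le.2 ⟨⟨_, j_mem_Q₀ T hA⟩,
    Subgroup.mem_center_iff.2 fun x => Subtype.ext (j_commute T hA x.2).eq, rfl⟩)
  rintro _ ⟨x, hx, rfl⟩
  rw [← centralizer_Q₀ T hA]
  exact Subgroup.mem_centralizer_iff.2 fun y hy =>
    congrArg Subtype.val (Subgroup.mem_center_iff.1 hx ⟨y, hy⟩)

theorem fStar_Q₀ :
    (generalizedFittingSubgroup ↥(CA T)).map (CA T).subtype = Q₀ T hA := by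
  have : Fact (Nat.Prime 2) := ⟨Nat.prime_two⟩
  rw [fStar_eq (N := (cact T hA).ker) inferInstance ?_ ?_ ?_, Q₀]
  · rw [← Q₀_subgroupOf T hA]
    exact (isPGroup_Q₀ T hA).of_equiv (Subgroup.subgroupOfEquivOfLe (Q₀_le T hA)).symm
  · intro g hg
    rw [← Q₀_subgroupOf T hA] at hg ⊢
    rw [Subgroup.mem_subgroupOf]
    have h : (g : MulAut G) ∈ Subgroup.centralizer (Q₀ T hA : Set (MulAut G)) :=
      Subgroup.mem_centralizer_iff.2 fun ψ hψ =>
        congrArg Subtype.val (Subgroup.mem_centralizer_iff.1 hg ⟨ψ, Q₀_le T hA hψ⟩ hψ)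
    rw [centralizer_Q₀ T hA] at h
    exact Subgroup.zpowers_le.2 (j_mem_Q₀ T hA) h
  · intro M hn hM
    let inst : MulAction M (Fin 45) :=
      MulAction.compHom (Fin 45) ((autAdj.subtype).comp ((cact T hA).comp M.subtype))
    have hsmul : ∀ (m : M) (i : Fin 45), m • i = cimg T hA m.1 i := fun m i => rfl
    have h := hM.card_modEq_card_fixedPoints (Fin 45)
    have hne : (MulAction.fixedPoints M (Fin 45)).Nonempty := by
      by_contra h0
      rw [Set.not_nonempty_iff_eq_empty] at h0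
      rw [h0, Nat.card_coe_set_eq, Set.ncard_empty, Nat.card_eq_fintype_card, Fintype.card_fin] at h
      exact absurd h (by decide)
    obtain ⟨i₀, hi₀⟩ := hne
    intro m hm
    refine MonoidHom.mem_ker.2 (Subtype.ext (Equiv.ext fun r => ?_))
    show cimg T hA m r = r
    obtain ⟨g₀, hg⟩ := T.exists_to i₀ r
    set g := inner T hA g₀
    rw [← cimg_inner T hA g₀ i₀] at hg
    have hfix : cimg T hA (g⁻¹ * m * g) i₀ = i₀ := by
      have hm' : g⁻¹ * m * g ∈ M := by simpa using hn.conj_mem m hm g⁻¹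
      exact (hsmul ⟨_, hm'⟩ i₀).symm.trans (hi₀ ⟨_, hm'⟩)
    rw [← hg]
    nth_rw 2 [← hfix]
    rw [← cimg_mul, ← cimg_mul, show g * (g⁻¹ * m * g) = m * g by group]

theorem odd_trivial (K : Subgroup (MulAut G)) (hodd : Odd (Nat.card K))
    (hN : Q₀ T hA ≤ Subgroup.normalizer (K : Set (MulAut G))) : K = ⊥ := by
  haveI : Fact (Nat.Prime 2) := ⟨Nat.prime_two⟩
  set j := MulAut.conj (d₁ * d₂) with hj
  set δ₁ := MulAut.conj d₁ with hδ₁
  set δ₂ := MulAut.conj d₂ with hδ₂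
  have hnorm : ∀ q ∈ Q₀ T hA, ∀ r ∈ K, q * r * q⁻¹ ∈ K := fun q hq r hr =>
    (Subgroup.mem_normalizer_iff.1 (hN hq) r).1 hr
  have hsq : ∀ r ∈ K, r * r = 1 → r = 1 := by
    intro r hr hrr
    have hdvd : orderOf r ∣ 2 := orderOf_dvd_of_pow_eq_one (by rw [pow_two]; exact hrr)
    rcases (Nat.dvd_prime Nat.prime_two).1 hdvd with h | h
    · exact orderOf_eq_one_iff.1 h
    · have h' : 2 ∣ Nat.card K := by
        rw [← h, ← Subgroup.orderOf_mk r hr]; exact orderOf_dvd_natCard _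
      exact absurd h' (Nat.two_dvd_ne_zero.2 (Nat.odd_iff.1 hodd))
  have hKQ : ∀ r ∈ K, r ∈ Q₀ T hA → r = 1 := by
    intro r hr hrQ
    have h4 : r ^ 4 = 1 := by
      obtain ⟨n, hn⟩ := Subgroup.mem_zpowers_iff.1 (sq_mem_j T hA hrQ)
      rw [show (4 : ℕ) = 2 * 2 from rfl, pow_mul, ← hn, ← zpow_natCast, ← _root_.zpow_mul,
        mul_comm, _root_.zpow_mul, zpow_natCast, ← order_j T hA, pow_orderOf_eq_one,
        _root_.one_zpow]
    refine hsq r hr (hsq _ (mul_mem hr hr) ?_)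
    rw [← pow_two, ← pow_two, ← pow_mul]; exact h4
  have hjQ := j_mem_Q₀ T hA
  let τ : K →* K :=
    { toFun := fun r => ⟨j * r.1 * j⁻¹, hnorm j hjQ r.1 r.2⟩
      map_one' := Subtype.ext (by simp)
      map_mul' := fun r s => Subtype.ext (by simp only [Subgroup.coe_mul]; group) }
  have hjj : j * j = 1 := by rw [hj, ← map_mul, T.prod_sq, map_one]
  have hfpf : MonoidHom.FixedPointFree τ := by
    intro r hr
    have hrj : Commute j (r : MulAut G) := mul_inv_eq_iff_eq_mul.1 (congrArg Subtype.val hr)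
    have hrC : (r : MulAut G) ∈ CA T := Subgroup.mem_centralizer_singleton_iff.2 hrj.eq.symm
    have hcent : (r : MulAut G) ∈ Subgroup.centralizer (Q₀ T hA : Set (MulAut G)) := by
      refine Subgroup.mem_centralizer_iff.2 fun q hq => ?_
      have hn : (r : MulAut G) * q * (r : MulAut G)⁻¹ ∈ Q₀ T hA := by
        have h := (cact T hA).normal_ker.conj_mem ⟨q, Q₀_le T hA hq⟩
          (by rw [← Q₀_subgroupOf T hA]; exact Subgroup.mem_subgroupOf.2 hq) ⟨r, hrC⟩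
        rw [← Q₀_subgroupOf T hA] at h
        exact h
      have h1 : (r : MulAut G) * q * (r : MulAut G)⁻¹ * q⁻¹ = 1 := by
        refine hKQ _ ?_ (mul_mem hn (inv_mem hq))
        rw [show (r : MulAut G) * q * (r : MulAut G)⁻¹ * q⁻¹ =
          r * (q * (r : MulAut G)⁻¹ * q⁻¹) by group]
        exact mul_mem r.2 (hnorm q hq _ (inv_mem r.2))
      exact (mul_inv_eq_iff_eq_mul.1 (mul_inv_eq_one.1 h1)).symm
    rw [centralizer_Q₀ T hA] at hcent
    exact Subtype.ext (hKQ _ r.2 (Subgroup.zpowers_le.2 hjQ hcent))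
  have hinvol : Function.Involutive τ := fun r => Subtype.ext (by
    show j * (j * r.1 * j⁻¹) * j⁻¹ = r.1
    rw [show j * (j * r.1 * j⁻¹) * j⁻¹ = j * j * r.1 * (j * j)⁻¹ by group, hjj]
    simp)
  have hab : ∀ r ∈ K, ∀ s ∈ K, r * s = s * r := fun r hr s hs =>
    congrArg Subtype.val (hfpf.commute_all_of_involutive hinvol ⟨r, hr⟩ ⟨s, hs⟩).eq
  have hinv : ∀ r ∈ K, j * r * j⁻¹ = r⁻¹ := fun r hr =>
    congrArg Subtype.val (congrFun (hfpf.coe_eq_inv_of_involutive hinvol) ⟨r, hr⟩)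
  have hδ1Q : δ₁ ∈ Q₀ T hA := (conj_mem_Q₀ T hA).2 T.d₁_mem_ker
  have hδ11 : δ₁ * δ₁ = 1 := by rw [hδ₁, ← map_mul, T.sq₁, map_one]
  have hδ21 : δ₂ = δ₁ * j := by
    rw [hδ₁, hj, ← map_mul, ← mul_assoc, T.sq₁, one_mul]
  -- nothing in `K` commutes with the first transposition
  have hone : ∀ s ∈ K, δ₁ * s * δ₁⁻¹ = s → s = 1 := by
    intro s hs hsc
    have hδ2s : δ₂ * s * δ₂⁻¹ = s⁻¹ := by
      rw [hδ21, show δ₁ * j * s * (δ₁ * j)⁻¹ = δ₁ * (j * s * j⁻¹) * δ₁⁻¹ by group, hinv s hs,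
        show δ₁ * s⁻¹ * δ₁⁻¹ = (δ₁ * s * δ₁⁻¹)⁻¹ by group, hsc]
    by_contra hne
    have hs1 : s d₁ = d₁ := conj_inj T hA (by
      rw [← conj_aut T s, ← hδ₁, show s * δ₁ * s⁻¹ = s * (δ₁ * s * δ₁⁻¹)⁻¹ * δ₁ by group, hsc,
        mul_inv_cancel, one_mul])
    set y := s d₂ with hy
    have hρ : s * s = MulAut.conj (y * d₂) := by
      rw [map_mul, hy, ← conj_aut T s, ← hδ₂]
      have hδ22 : δ₂⁻¹ = δ₂ := by rw [hδ₂, ← map_inv, H99.tt_inv T.tt T.mem₂.1]
      calc s * s = s * (δ₂ * s * δ₂⁻¹)⁻¹ := by rw [hδ2s, inv_inv]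
        _ = s * δ₂ * s⁻¹ * δ₂⁻¹ := by group
        _ = _ := by rw [hδ22]
    have hρne : s * s ≠ 1 := fun h => hne (hsq s hs h)
    have hfar : y ∈ far T := by
      refine ⟨?_, fun hc => hρne (hsq _ (mul_mem hs hs) ?_)⟩
      · have := perp_apply T hA s T.mem₂
        rwa [hs1] at this
      · rw [hρ, ← map_mul, show y * d₂ * (y * d₂) = y * (d₂ * y) * d₂ by group, ← hc.eq,
          show y * (y * d₂) * d₂ = (y * y) * (d₂ * d₂) by group,
          H99.tt_mul_self T.tt (hA.aut s _ T.mem₂.1), T.sq₂, one_mul, map_one]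
    have hall : ∀ y' ∈ far T, MulAut.conj (y' * d₂) ∈ K := by
      intro y' hy'
      obtain ⟨k, hk, rfl⟩ := far_trans T hfar hy'
      have h := hnorm _ ((conj_mem_Q₀ T hA).2 hk) _ (hρ ▸ mul_mem hs hs)
      rw [← map_inv, ← map_mul, ← map_mul] at h
      convert h using 2
      rw [show k * (y * d₂) * k⁻¹ = k * y * k⁻¹ * (k * d₂ * k⁻¹) by group,
        show k * d₂ * k⁻¹ = d₂ by rw [(T.ker_commute hk).2.eq, mul_inv_cancel_right]]
    obtain ⟨a, ha, b, hb, hab', hcab⟩ := far_pair T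
    have hmem : MulAut.conj (a * b) ∈ K := by
      have h := mul_mem (hall a ha) (inv_mem (hall b hb))
      rw [← map_inv, ← map_mul] at h
      convert h using 2
      rw [_root_.mul_inv_rev, H99.tt_inv T.tt T.mem₂.1, H99.tt_inv T.tt hb.1.1,
        show a * d₂ * (d₂ * b) = a * (d₂ * d₂) * b by group, T.sq₂, mul_one]
    have h1 := hsq _ hmem (by
      rw [← map_mul, show a * b * (a * b) = a * (b * a) * b by group, ← hcab.eq,
        show a * (a * b) * b = (a * a) * (b * b) by group, H99.tt_mul_self T.tt ha.1.1,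
        H99.tt_mul_self T.tt hb.1.1, one_mul, map_one])
    refine hab' ?_
    have h2 : a * b = 1 := conj_inj T hA (h1.trans (map_one _).symm)
    rw [eq_inv_of_mul_eq_one_left h2, H99.tt_inv T.tt hb.1.1]
  rw [Subgroup.eq_bot_iff_forall]
  intro r hr
  have hδ1inv : ∀ r ∈ K, δ₁ * r * δ₁⁻¹ = r⁻¹ := by
    intro r hr
    have hr' := hnorm δ₁ hδ1Q r hr
    have h := hone _ (mul_mem hr hr') (by
      rw [show δ₁ * (r * (δ₁ * r * δ₁⁻¹)) * δ₁⁻¹ =
        (δ₁ * r * δ₁⁻¹) * ((δ₁ * δ₁) * r * (δ₁ * δ₁)⁻¹) by group, hδ11, one_mul, inv_one, mul_one,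
        hab _ hr' _ hr])
    exact eq_inv_of_mul_eq_one_right h
  obtain ⟨α, hα, hαo⟩ := exists_outer T hA
  have hα2 : α * δ₂ * α⁻¹ = δ₁ := by
    rw [hδ₂, conj_aut T α, (outer_swaps T hA hα hαo).2]
  have hrδ2 : δ₂ * r * δ₂⁻¹ = r := by
    rw [hδ21, show δ₁ * j * r * (δ₁ * j)⁻¹ = δ₁ * (j * r * j⁻¹) * δ₁⁻¹ by group, hinv r hr,
      hδ1inv _ (inv_mem hr), inv_inv]
  have hfix : δ₁ * (α * r * α⁻¹) * δ₁⁻¹ = α * r * α⁻¹ := by
    rw [← hα2, show α * δ₂ * α⁻¹ * (α * r * α⁻¹) * (α * δ₂ * α⁻¹)⁻¹ =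
      α * (δ₂ * r * δ₂⁻¹) * α⁻¹ by group, hrδ2]
  have h := hone _ (hnorm α hα r hr) hfix
  exact conj_eq_one_iff.1 h

/-- The statement on the centraliser of the product in the automorphism group. -/
theorem main (j : MulAut G) (hj : j = MulAut.conj (d₁ * d₂)) (Q : Subgroup (MulAut G))
    (hQ : Q = (generalizedFittingSubgroup ↥(Subgroup.centralizer ({j} : Set (MulAut G)))).map
      (Subgroup.centralizer ({j} : Set (MulAut G))).subtype) :
    IsLargeExtraspecial Q ∧ Nat.card Q = 2 ^ 11 ∧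
      Q ≤ Subgroup.centralizer ({j} : Set (MulAut G)) ∧
      ∃ (_ : (Q.subgroupOf (Subgroup.centralizer ({j} : Set (MulAut G)))).Normal) (F : Type)
        (_ : Field F) (_ : Fintype F), Fintype.card F = 4 ∧
        Nonempty (↥(Subgroup.centralizer ({j} : Set (MulAut G))) ⧸
          Q.subgroupOf (Subgroup.centralizer ({j} : Set (MulAut G))) ≃* MulAut (Cfsg.PSU 4 F 2)) := by
  subst hj
  obtain rfl : Q = Q₀ T hA := hQ.trans (fStar_Q₀ T hA)
  have hn : ((Q₀ T hA).subgroupOf (CA T)).Normal := by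
    rw [Q₀_subgroupOf T hA]; infer_instance
  refine ⟨⟨extraspecial_Q₀ T hA, ?_, ?_, odd_trivial T hA⟩, (quot_CA T hA).1.trans (by norm_num),
    Q₀_le T hA, hn, ?_⟩
  · rw [center_Q₀ T hA, centralizer_Q₀ T hA]
  · rw [center_Q₀ T hA, Subgroup.zpowers_eq_closure, Subgroup.centralizer_closure]
    exact Subgroup.le_normalizer_of_normal_subgroupOf (hK := hn) (Q₀_le T hA)
  · obtain ⟨F4, i4, j4, h4⟩ : ∃ (F : Type) (_ : Field F) (_ : Fintype F), Fintype.card F = 4 := by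
      haveI : Fact (Nat.Prime 2) := ⟨Nat.prime_two⟩
      let i4 : Fintype (GaloisField 2 2) := Fintype.ofFinite _
      refine ⟨GaloisField 2 2, inferInstance, i4, ?_⟩
      rw [← Nat.card_eq_fintype_card, GaloisField.card 2 2 (by norm_num)]; norm_num
    obtain ⟨e4⟩ := H20.AutPSU4.nonempty_iso F4 h4
    obtain ⟨ψ⟩ := (quot_CA T hA).2
    haveI := hn
    exact ⟨F4, i4, j4, h4,
      ⟨((QuotientGroup.quotientMulEquivOfEq (Q₀_subgroupOf T hA)).trans ψ).trans e4⟩⟩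

end H33.FiPair
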